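import Mathlib
import Cfsg.Agent.Lib.FS8.Defs

/-! Finite Moufang octagons: the window calculus. -/

set_option autoImplicit false

open scoped commutatorElement

namespace FS8.W8

variable {G : Type*} [Group G] {W : W8 G} {i j k l c d : ℤ} {x y a b g m h : G}

theorem U_le_I (h1 : i ≤ k) (h2 : k ≤ j) : W.U k ≤ W.I i j :=
  le_iSup₂_of_le (f := fun k (_ : k ∈ Set.Icc i j) => W.U k) k ⟨h1, h2⟩ le_rfl

theorem mI (hx : x ∈ W.U k) (h1 : i ≤ k := by omega) (h2 : k ≤ j := by omega) : x ∈ W.I i j :=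
  U_le_I h1 h2 hx

theorem I_le {H : Subgroup G} (h : ∀ k, i ≤ k → k ≤ j → W.U k ≤ H) : W.I i j ≤ H :=
  iSup₂_le fun k hk => h k hk.1 hk.2

theorem mono (hg : g ∈ W.I i j) (h1 : k ≤ i := by omega) (h2 : j ≤ l := by omega) : g ∈ W.I k l :=
  I_le (fun _ a b => U_le_I (h1.trans a) (b.trans h2)) hg

theorem I_nil (hg : g ∈ W.I i j) (h : j < i := by omega) : g = 1 :=
  Subgroup.mem_bot.1 (I_le (fun _ a b => by omega) hg)

theorem I_one (hg : g ∈ W.I i j) (h1 : i = k := by omega) (h2 : j = k := by omega) : g ∈ W.U k :=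
  I_le (fun r a b => by rw [show r = k by omega]) hg

theorem U_eq (hx : x ∈ W.U i) (h : i = j ∨ i = j + 16 ∨ i + 16 = j := by omega) : x ∈ W.U j := by
  rcases h with rfl | rfl | rfl
  exacts [hx, W.per j ▸ hx, (W.per i).symm ▸ hx]

theorem I_eq (hg : g ∈ W.I i j)
    (h : (i = k ∧ j = l) ∨ (i = k + 16 ∧ j = l + 16) ∨ (i + 16 = k ∧ j + 16 = l) := by omega) :
    g ∈ W.I k l := by
  refine I_le (fun r a b x hx => ?_) hg
  rcases h with h | h | h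
  · exact mI hx
  · exact mI (U_eq (j := r - 16) hx)
  · exact mI (U_eq (j := r + 16) hx)

/-- Induction over a window. -/
theorem I_ind {p : G → Prop} (hg : g ∈ W.I i j) (h : ∀ k, i ≤ k → k ≤ j → ∀ x ∈ W.U k, p x)
    (h1 : p 1) (hm : ∀ x y, x ∈ W.I i j → y ∈ W.I i j → p x → p y → p (x * y)) : p g := by
  have : ∀ g ∈ W.I i j, g ∈ W.I i j ∧ p g := fun g hg => by
    rw [I, iSup_subtype'] at hg
    refine Subgroup.iSup_induction _ (C := fun g => g ∈ W.I i j ∧ p g) hg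
      (fun k x hx => ⟨mI hx k.2.1 k.2.2, h k k.2.1 k.2.2 x hx⟩) ⟨one_mem _, h1⟩
      fun x y hx hy => ⟨mul_mem hx.1 hy.1, hm x y hx.1 hy.1 hx.2 hy.2⟩
  exact (this g hg).2

/-- Two windows separated by a wall. -/
theorem sep (hg : g ∈ W.I i j) (hg' : g ∈ W.I k l)
    (h : j < i + 8 ∧ j < k ∧ l < i + 16 ∧ l < k + 8 := by omega) : g = 1 :=
  Subgroup.disjoint_def.1 (W.ind (min i (k - 8))) (mono hg) (mono hg')

theorem cm (hx : x ∈ W.U i) (hy : y ∈ W.U j) (h : i < j ∧ j < i + 8 := by omega) :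
    ⁅x, y⁆ ∈ W.I (i + 1) (j - 1) := W.comm h.1 h.2 hx hy

theorem cm' (hx : x ∈ W.U j) (hy : y ∈ W.U i) (h : i < j ∧ j < i + 8 := by omega) :
    ⁅x, y⁆ ∈ W.I (i + 1) (j - 1) := by
  rw [← commutatorElement_inv]; exact inv_mem (cm hy hx h)

/-- Neighbouring root groups commute. -/
theorem adj (hx : x ∈ W.U i) (hy : y ∈ W.U j) (h : j = i + 1 ∨ i = j + 1 := by omega) : Commute x y := by
  rw [← commutatorElement_eq_one_iff_commute]
  rcases h with h | h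
  exacts [I_nil (cm hx hy), I_nil (cm' hx hy)]

theorem cj_eq (x y : G) : x * y * x⁻¹ = ⁅x, y⁆ * y := by rw [commutatorElement_def]; group

theorem cj_eq' (x y : G) : x * y * x⁻¹ = y * ⁅y⁻¹, x⁆ := by rw [commutatorElement_def]; group

theorem conj_mem {H : Subgroup G} (ha : a ∈ W.I k l)
    (h : ∀ r, k ≤ r → r ≤ l → ∀ y ∈ W.U r, x * y * x⁻¹ ∈ H) : x * a * x⁻¹ ∈ H :=
  I_ind (p := fun a => x * a * x⁻¹ ∈ H) ha h (by simp) fun a b _ _ h1 h2 => by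
    rw [show x * (a * b) * x⁻¹ = x * a * x⁻¹ * (x * b * x⁻¹) by group]; exact mul_mem h1 h2

/-- `U i` normalises a window next to it. -/
theorem nrm (hx : x ∈ W.U i) (ha : a ∈ W.I k l)
    (h : k ≤ i + 1 ∧ i ≤ l + 1 ∧ l < i + 8 ∧ i < k + 8 := by omega) : x * a * x⁻¹ ∈ W.I k l := by
  refine conj_mem ha fun r h1 h2 y hy => ?_
  rcases lt_trichotomy r i with e | rfl | e
  · rw [cj_eq]; exact mul_mem (mono (cm' hx hy)) (mI hy)
  · exact mI (mul_mem (mul_mem hx hy) (inv_mem hx))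
  · rw [cj_eq]; exact mul_mem (mono (cm hx hy)) (mI hy)

theorem nrmI (hg : g ∈ W.I i j) (ha : a ∈ W.I k l)
    (h : k ≤ i + 1 ∧ j ≤ l + 1 ∧ l < i + 8 ∧ j < k + 8 := by omega) : g * a * g⁻¹ ∈ W.I k l :=
  I_ind (p := fun g => ∀ a ∈ W.I k l, g * a * g⁻¹ ∈ W.I k l) hg (fun r h1 h2 x hx a ha => nrm hx ha)
    (by simp) (fun x y _ _ h1 h2 a ha => by
      rw [show x * y * a * (x * y)⁻¹ = x * (y * a * y⁻¹) * x⁻¹ by group]; exact h1 _ (h2 a ha)) a ha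

theorem nrm' (hx : x ∈ W.U i) (ha : a ∈ W.I k l)
    (h : k ≤ i + 1 ∧ i ≤ l + 1 ∧ l < i + 8 ∧ i < k + 8 := by omega) : x⁻¹ * a * x ∈ W.I k l := by
  simpa using nrm (inv_mem hx) ha h

theorem nrmI' (hg : g ∈ W.I i j) (ha : a ∈ W.I k l)
    (h : k ≤ i + 1 ∧ j ≤ l + 1 ∧ l < i + 8 ∧ j < k + 8 := by omega) : g⁻¹ * a * g ∈ W.I k l := by
  simpa using nrmI (inv_mem hg) ha h

/-- The commutator of two windows. -/
theorem cmI (hg : g ∈ W.I i j) (ha : a ∈ W.I k l) (h : i < k ∧ j < l ∧ l < i + 8 := by omega) :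
    ⁅g, a⁆ ∈ W.I (i + 1) (l - 1) := by
  refine I_ind (p := fun g => ⁅g, a⁆ ∈ W.I (i + 1) (l - 1)) hg (fun r h1 h2 x hx => ?_) (by simp)
    fun x y hx _ h1 h2 => ?_
  · refine I_ind (p := fun a => ⁅x, a⁆ ∈ W.I (i + 1) (l - 1)) ha (fun s h3 h4 y hy => ?_) (by simp)
      fun a b ha _ h3 h4 => ?_
    · rcases lt_trichotomy r s with e | rfl | e
      · exact mono (cm hx hy)
      · exact mI (mul_mem (mul_mem (mul_mem hx hy) (inv_mem hx)) (inv_mem hy))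
      · exact mono (cm' hx hy)
    · rw [show ⁅x, a * b⁆ = ⁅x, a⁆ * (a * ⁅x, b⁆ * a⁻¹) by simp only [commutatorElement_def]; group]
      exact mul_mem h3 (nrmI ha h4)
  · rw [show ⁅x * y, a⁆ = x * ⁅y, a⁆ * x⁻¹ * ⁅x, a⁆ by simp only [commutatorElement_def]; group]
    exact mul_mem (nrmI hx h2) h1

theorem cmI' (hg : g ∈ W.I i j) (ha : a ∈ W.I k l) (h : i < k ∧ j < l ∧ l < i + 8 := by omega) :
    ⁅a, g⁆ ∈ W.I (i + 1) (l - 1) := by
  rw [← commutatorElement_inv]; exact inv_mem (cmI hg ha h)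

theorem dec (hg : g ∈ W.I i j) (h : j < i + 8 := by omega) :
    ∃ x ∈ W.U i, ∃ a ∈ W.I (i + 1) j, g = x * a := by
  by_cases e : j < i
  · exact ⟨1, one_mem _, 1, one_mem _, by rw [I_nil hg, one_mul]⟩
  refine I_ind (p := fun g => ∃ x ∈ W.U i, ∃ a ∈ W.I (i + 1) j, g = x * a) hg (fun r h1 h2 x hx => ?_)
    ⟨1, one_mem _, 1, one_mem _, by simp⟩ ?_
  · rcases h1.eq_or_lt with rfl | e
    · exact ⟨x, hx, 1, one_mem _, by simp⟩
    · exact ⟨1, one_mem _, x, mI hx, by simp⟩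
  · rintro _ _ - - ⟨x, hx, a, ha, rfl⟩ ⟨y, hy, b, hb, rfl⟩
    exact ⟨x * y, mul_mem hx hy, _, mul_mem (nrm' hy ha) hb, by group⟩

theorem dec' (hg : g ∈ W.I i j) (h : j < i + 8 := by omega) :
    ∃ a ∈ W.I (i + 1) j, ∃ x ∈ W.U i, g = a * x := by
  obtain ⟨x, hx, a, ha, e⟩ := dec (inv_mem hg) h
  exact ⟨_, inv_mem ha, _, inv_mem hx, by rw [← mul_inv_rev, ← e, inv_inv]⟩

theorem decR (hg : g ∈ W.I i j) (h : j < i + 8 := by omega) :
    ∃ a ∈ W.I i (j - 1), ∃ x ∈ W.U j, g = a * x := by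
  have := dec' (W := W.rf 0) (i := -j) (j := -i) (g := g) (by simpa using hg)
  simpa [show -(-j + 1) = j - 1 by ring] using this

theorem decR' (hg : g ∈ W.I i j) (h : j < i + 8 := by omega) :
    ∃ x ∈ W.U j, ∃ a ∈ W.I i (j - 1), g = x * a := by
  obtain ⟨x, hx, a, ha, e⟩ := decR (inv_mem hg) h
  exact ⟨_, inv_mem ha, _, inv_mem hx, by rw [← mul_inv_rev, ← e, inv_inv]⟩

/-- A window is the product of two windows. -/
theorem split (hg : g ∈ W.I i j) (k : ℤ) (h : j < i + 8 := by omega) :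
    ∃ a ∈ W.I i k, ∃ b ∈ W.I (k + 1) j, g = a * b := by
  have key : ∀ n : ℕ, ∀ i : ℤ, j < i + 8 → k + 1 ≤ i + n → ∀ g ∈ W.I i j,
      ∃ a ∈ W.I i k, ∃ b ∈ W.I (k + 1) j, g = a * b := fun n => by
    induction n with
    | zero => exact fun i _ h g hg => ⟨1, one_mem _, g, mono hg (by simpa using h), by simp⟩
    | succ n ih =>
      intro i h1 h2 g hg
      by_cases e : k < i
      · exact ⟨1, one_mem _, g, mono hg, by simp⟩
      obtain ⟨x, hx, a, ha, rfl⟩ := dec hg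
      obtain ⟨b, hb, c, hc, rfl⟩ := ih (i + 1) (by omega) (by push_cast at h2; omega) a ha
      exact ⟨x * b, mul_mem (mI hx) (mono hb), c, hc, by group⟩
  exact key (k + 1 - i).toNat i h (by omega) g hg

theorem split' (hg : g ∈ W.I i j) (k : ℤ) (h : j < i + 8 := by omega) :
    ∃ b ∈ W.I (k + 1) j, ∃ a ∈ W.I i k, g = b * a := by
  obtain ⟨x, hx, a, ha, e⟩ := split (inv_mem hg) k h
  exact ⟨_, inv_mem ha, _, inv_mem hx, by rw [← mul_inv_rev, ← e, inv_inv]⟩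

/-- Uniqueness of the decomposition. -/
theorem uniq {a' b' : G} (ha : a ∈ W.I i j) (ha' : a' ∈ W.I i j) (hb : b ∈ W.I k l) (hb' : b' ∈ W.I k l)
    (e : a * b = a' * b') (h : j < i + 8 ∧ j < k ∧ l < i + 16 ∧ l < k + 8 := by omega) :
    a = a' ∧ b = b' := by
  have e1 : a'⁻¹ * a = b' * b⁻¹ := by rw [inv_mul_eq_iff_eq_mul, ← mul_assoc, ← e]; group
  have := sep (mul_mem (inv_mem ha') ha) (e1 ▸ mul_mem hb' (inv_mem hb)) h
  obtain rfl : a' = a := inv_mul_eq_one.1 this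
  exact ⟨rfl, mul_left_cancel e⟩

theorem uniq' {a' b' : G} (ha : a ∈ W.I i j) (ha' : a' ∈ W.I i j) (hb : b ∈ W.I k l) (hb' : b' ∈ W.I k l)
    (e : b * a = b' * a') (h : j < i + 8 ∧ j < k ∧ l < i + 16 ∧ l < k + 8 := by omega) :
    a = a' ∧ b = b' := by
  have := uniq (inv_mem ha) (inv_mem ha') (inv_mem hb) (inv_mem hb')
    (by rw [← mul_inv_rev, e, mul_inv_rev]) h
  exact ⟨inv_injective this.1, inv_injective this.2⟩

/-- The intersection of two windows inside a window of length eight. -/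
theorem inter (hg : g ∈ W.I i j) (hg' : g ∈ W.I k l)
    (h : i ≤ k ∧ j ≤ l ∧ j < i + 8 ∧ l < k + 8 ∧ l < i + 16 := by omega) : g ∈ W.I k j := by
  obtain ⟨a, ha, b, hb, rfl⟩ := split hg (k - 1)
  have hb' : b ∈ W.I k j := mono hb
  by_cases e : j < k
  · rw [sep hg hg']; exact one_mem _
  have : a = 1 := sep ha (k := k) (l := l) (by
    have := mul_mem hg' (inv_mem (mono hb' : b ∈ W.I k l))
    simpa using this)
  simpa [this] using hb'

/-! ### Reflections and torus elements -/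

theorem Ref.mem (hm : W.Ref m c) (hx : x ∈ W.U i)
    (h : c - i = j ∨ c - i = j + 16 ∨ c - i + 16 = j := by omega) : m * x * m⁻¹ ∈ W.U j :=
  U_eq ((hm i x).1 hx) h

theorem Ref.inv (hm : W.Ref m c) : W.Ref m⁻¹ c := fun j y => by
  rw [hm (c - j), sub_sub_cancel]; simp [mul_assoc]

theorem Ref.mem' (hm : W.Ref m c) (hx : x ∈ W.U i)
    (h : c - i = j ∨ c - i = j + 16 ∨ c - i + 16 = j := by omega) : m⁻¹ * x * m ∈ W.U j := by
  simpa using hm.inv.mem hx h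

theorem Ref.memI (hm : W.Ref m c) (hg : g ∈ W.I i j) : m * g * m⁻¹ ∈ W.I (c - j) (c - i) :=
  conj_mem hg fun r h1 h2 y hy => mI (hm.mem (j := c - r) hy)

theorem Ref.memI' (hm : W.Ref m c) (hg : g ∈ W.I i j) : m⁻¹ * g * m ∈ W.I (c - j) (c - i) := by
  simpa using hm.inv.memI hg

theorem Ref.eq (hm : W.Ref m c) (h : c = d ∨ c = d + 16 ∨ c + 16 = d := by omega) : W.Ref m d := by
  rcases h with rfl | rfl | rfl
  exacts [hm, (W.Ref_per _ _).1 hm, (W.Ref_per _ _).2 hm]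

theorem Tor.mem (hh : W.Tor h) (hx : x ∈ W.U i) : h * x * h⁻¹ ∈ W.U i := (hh i x).1 hx

theorem Tor.one : W.Tor 1 := fun _ _ => by simp

theorem Tor.inv (hh : W.Tor h) : W.Tor h⁻¹ := fun j y => by rw [hh j (h⁻¹ * y * h⁻¹⁻¹)]; simp [mul_assoc]

theorem Tor.mem' (hh : W.Tor h) (hx : x ∈ W.U i) : h⁻¹ * x * h ∈ W.U i := by simpa using hh.inv.mem hx

theorem Tor.memI (hh : W.Tor h) (hg : g ∈ W.I i j) : h * g * h⁻¹ ∈ W.I i j :=
  conj_mem hg fun _ h1 h2 _ hy => mI (hh.mem hy)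

theorem Tor.memI' (hh : W.Tor h) (hg : g ∈ W.I i j) : h⁻¹ * g * h ∈ W.I i j := by
  simpa using hh.inv.memI hg

theorem Tor.mul {h' : G} (hh : W.Tor h) (hh' : W.Tor h') : W.Tor (h * h') := fun j y => by
  rw [hh' j, hh j]; simp [mul_assoc]

theorem Ref.mul {m' : G} (hm : W.Ref m c) (hm' : W.Ref m' c) : W.Tor (m * m') := fun j y => by
  rw [hm' j, hm, sub_sub_cancel]; simp [mul_assoc]

theorem Tor.mul_ref (hh : W.Tor h) (hm : W.Ref m c) : W.Ref (h * m) c := fun j y => by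
  rw [hm j, hh]; simp [mul_assoc]

theorem Ref.mul_tor (hm : W.Ref m c) (hh : W.Tor h) : W.Ref (m * h) c := fun j y => by
  rw [hh j, hm]; simp [mul_assoc]

theorem Ref.conj {m' : G} (hm : W.Ref m c) (hm' : W.Ref m' d) : W.Ref (m * m' * m⁻¹) (2 * c - d) :=
  fun j y => by
    rw [hm.inv j, hm', hm, show c - (d - (c - j)) = 2 * c - d - j by ring]; simp [mul_assoc]

theorem Ref.conj_tor (hm : W.Ref m c) (hh : W.Tor h) : W.Tor (m * h * m⁻¹) := (hm.mul_tor hh).mul hm.inv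

theorem V_le (i : ℤ) : W.V i ≤ W.U i := fun _ h => h.1

theorem V_comm (ha : a ∈ W.V i) (hx : x ∈ W.U j) (h : i - 4 ≤ j ∧ j ≤ i + 4 := by omega) : Commute a x :=
  ha.2 j h.1 h.2 x hx

theorem V_commI (ha : a ∈ W.V i) (hg : g ∈ W.I j k) (h : i - 4 ≤ j ∧ k ≤ i + 4 := by omega) :
    Commute a g :=
  I_ind hg (fun _ h1 h2 _ hx => V_comm ha hx) (Commute.one_right _) fun _ _ _ _ h1 h2 => h1.mul_right h2

theorem V_per (i : ℤ) : W.V (i + 16) = W.V i := by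
  rw [← W.sh_V]; congr 1
  cases W
  simp only [sh, mk.injEq]
  funext k
  apply_assumption

theorem V_eq (hx : x ∈ W.V i) (h : i = j ∨ i = j + 16 ∨ i + 16 = j := by omega) : x ∈ W.V j := by
  rcases h with rfl | rfl | rfl
  exacts [hx, V_per (W := W) j ▸ hx, (V_per (W := W) i).symm ▸ hx]

theorem commute_conj {a u : G} (m : G) (h : Commute a (m⁻¹ * u * m)) : Commute (m * a * m⁻¹) u := by
  have := h.map (MulAut.conj m)
  simpa [mul_assoc] using this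

theorem Ref.memV (hm : W.Ref m c) (ha : a ∈ W.V i)
    (h : c - i = j ∨ c - i = j + 16 ∨ c - i + 16 = j := by omega) : m * a * m⁻¹ ∈ W.V j :=
  V_eq (i := c - i) ⟨hm.mem ha.1, fun k h1 h2 _ hu => commute_conj m (V_comm ha (hm.mem' (j := c - k) hu))⟩ h

theorem Ref.memV' (hm : W.Ref m c) (ha : a ∈ W.V i)
    (h : c - i = j ∨ c - i = j + 16 ∨ c - i + 16 = j := by omega) : m⁻¹ * a * m ∈ W.V j := by
  simpa using hm.inv.memV ha h

theorem Tor.memV (hh : W.Tor h) (ha : a ∈ W.V i) : h * a * h⁻¹ ∈ W.V i :=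
  ⟨hh.mem ha.1, fun _ h1 h2 _ hu => commute_conj h (V_comm ha (hh.mem' hu))⟩

theorem Tor.memV' (hh : W.Tor h) (ha : a ∈ W.V i) : h⁻¹ * a * h ∈ W.V i := by simpa using hh.inv.memV ha

/-! ### The elements `μ(x)` -/

section mu

variable {p q : G}

/-- The shift identity. -/
theorem Mu.shift (M : W.Mu i x p q) (hy : Commute q y) :
    x * y * x⁻¹ = p⁻¹ * (p * x * q * y * (p * x * q)⁻¹) * p := by
  calc x * y * x⁻¹ = x * (q * y * q⁻¹) * x⁻¹ := by rw [hy.eq, mul_inv_cancel_right]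
    _ = _ := by group

theorem Mu.shift' (M : W.Mu i x p q) (hy : Commute p y) :
    x⁻¹ * y * x = q * ((p * x * q)⁻¹ * y * (p * x * q)) * q⁻¹ := by
  calc x⁻¹ * y * x = x⁻¹ * (p⁻¹ * y * p) * x := by rw [mul_assoc p⁻¹, ← hy.eq, inv_mul_cancel_left]
    _ = _ := by group

theorem Mu.inv (M : W.Mu i x p q) : W.Mu i x⁻¹ q⁻¹ p⁻¹ :=
  ⟨inv_mem M.mem, inv_ne_one.2 M.ne, inv_mem M.l_mem, inv_mem M.k_mem, by
    have := M.ref.inv
    rwa [mul_inv_rev, mul_inv_rev, ← mul_assoc] at this⟩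

theorem Mu.eq (M : W.Mu i x p q) (h : i = j ∨ i = j + 16 ∨ i + 16 = j := by omega) : W.Mu j x p q := by
  refine ⟨U_eq M.mem, M.ne, U_eq M.k_mem, U_eq M.l_mem, ?_⟩
  rcases h with rfl | rfl | rfl
  · exact M.ref
  · exact (M.ref.eq (d := 2 * j + 24)).eq
  · exact (M.ref.eq (d := 2 * i + 24)).eq

theorem not_ref (hm : m ∈ W.U i) : ¬ W.Ref m (2 * i + 8) := fun h => by
  obtain ⟨y, hy, e⟩ := W.ne (i + 1)
  have := h.mem (j := i + 7) hy
  rw [(adj hm hy).eq, mul_inv_cancel_right] at this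
  exact e (sep (i := i + 1) (j := i + 1) (k := i + 7) (l := i + 7) (mI hy) (mI this))

/-- `μ(κ x) = μ(x)`. -/
theorem Mu.kap (M : W.Mu i x p q) : W.Mu (i + 8) p (p * x * q * q * (p * x * q)⁻¹) x := by
  have h1 : p * x * q * q * (p * x * q)⁻¹ ∈ W.U i := M.ref.mem M.l_mem
  have e : p * x * q * q * (p * x * q)⁻¹ * p * x = p * x * q := by group
  refine ⟨M.k_mem, fun h => not_ref (i := i) ?_ M.ref, U_eq h1, U_eq M.mem, e.symm ▸ M.ref.eq⟩
  rw [← e, h, mul_one, ← h]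
  exact mul_mem h1 M.mem

/-- `μ(λ x) = μ(x)`. -/
theorem Mu.lam (M : W.Mu i x p q) : W.Mu (i + 8) q x ((p * x * q)⁻¹ * p * (p * x * q)) := by
  have h1 : (p * x * q)⁻¹ * p * (p * x * q) ∈ W.U i := M.ref.mem' M.k_mem
  have e : x * q * ((p * x * q)⁻¹ * p * (p * x * q)) = p * x * q := by group
  refine ⟨M.l_mem, fun h => not_ref (i := i) ?_ M.ref, U_eq M.mem, U_eq h1, e.symm ▸ M.ref.eq⟩
  rw [← e, h, mul_one, ← h]
  exact mul_mem M.mem h1

theorem Mu.k_ne (M : W.Mu i x p q) : p ≠ 1 := M.kap.ne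

theorem Mu.l_ne (M : W.Mu i x p q) : q ≠ 1 := M.lam.ne

/-- The first component of `x y x⁻¹` for `y ∈ U (i + 7)`. -/
theorem Mu.up (M : W.Mu i x p q) (hy : y ∈ W.U (i + 7)) :
    (p * x * q * y * (p * x * q)⁻¹)⁻¹ * (x * y * x⁻¹) ∈ W.I (i + 2) (i + 7) := by
  rw [M.shift (adj M.l_mem hy)]
  have h1 := M.ref.mem (j := i + 1) hy
  generalize p * x * q * y * (p * x * q)⁻¹ = v at h1
  rw [show v⁻¹ * (p⁻¹ * v * p) = ⁅v⁻¹, p⁻¹⁆ by simp only [commutatorElement_def]; group]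
  exact mono (cm (inv_mem h1) (inv_mem M.k_mem))

/-- The last component of `x y x⁻¹` for `y ∈ U (i - 7)`. -/
theorem Mu.dn (M : W.Mu i x p q) (hy : y ∈ W.U (i - 7)) :
    x * y * x⁻¹ * (p * x * q * y * (p * x * q)⁻¹)⁻¹ ∈ W.I (i - 7) (i - 2) := by
  rw [M.shift (adj (U_eq (j := i - 8) M.l_mem) hy)]
  have h1 := M.ref.mem (j := i - 1) hy
  generalize p * x * q * y * (p * x * q)⁻¹ = v at h1
  rw [show p⁻¹ * v * p * v⁻¹ = ⁅p⁻¹, v⁆ by simp only [commutatorElement_def]; group]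
  exact mono (cm (inv_mem (U_eq (j := i - 8) M.k_mem)) h1)

/-- A nontrivial element of `U i` moves `U (i + 7)` out of `U (i + 2) ⋯`. -/
theorem far_up (hx : x ∈ W.U i) (hy : y ∈ W.U (i + 7)) (h : x * y * x⁻¹ ∈ W.I (i + 2) (i + 9)) :
    x = 1 ∨ y = 1 := by
  by_contra! e
  obtain ⟨p, q, M⟩ := W.exists_Mu hx e.1
  have h1 := M.ref.mem (j := i + 1) hy
  have h2 := mul_mem h (inv_mem (mono (M.up hy) : _ ∈ W.I (i + 2) (i + 9)))
  rw [mul_inv_rev, inv_inv, mul_inv_cancel_left] at h2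
  exact e.2 (conj_eq_one_iff.1 (sep (i := i + 1) (j := i + 1) (mI h1) h2))

theorem far_dn (hx : x ∈ W.U i) (hy : y ∈ W.U (i - 7)) (h : x * y * x⁻¹ ∈ W.I (i - 9) (i - 2)) :
    x = 1 ∨ y = 1 :=
  far_up (W := W.rf 0) (i := -i) (by simpa using hx) (by simpa using U_eq hy) (by simpa using mono h)

theorem Tor.eq_one (hh : W.Tor (a * b)) (ha : a ∈ W.U (i + 8)) (hb : b ∈ W.U i) : a = 1 ∧ b = 1 := by
  obtain ⟨y, hy, e⟩ := W.ne (i + 1)
  have h1 := hh.mem hy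
  rw [show a * b * y * (a * b)⁻¹ = a * (b * y * b⁻¹) * a⁻¹ by group, (adj hb hy).eq,
    mul_inv_cancel_right] at h1
  obtain rfl := (far_dn ha (U_eq hy) (mI h1)).resolve_right e
  obtain ⟨z, hz, e'⟩ := W.ne (i + 7)
  have h2 := hh.mem hz
  rw [one_mul] at h2
  exact ⟨rfl, (far_up hb hz (mI h2)).resolve_right e'⟩

/-- `κ` and `λ` are unique. -/
theorem Mu.uniq {p' q' : G} (M : W.Mu i x p q) (M' : W.Mu i x p' q') : p = p' ∧ q = q' := by
  have h1 := M.ref.mul M'.ref.inv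
  have h2 := M'.ref.mem (j := i) (mul_mem (inv_mem M'.l_mem) M.l_mem)
  rw [show p * x * q * (p' * x * q')⁻¹ =
    p * p'⁻¹ * (p' * x * q' * (q'⁻¹ * q) * (p' * x * q')⁻¹) by group] at h1
  obtain ⟨e1, e2⟩ := h1.eq_one (mul_mem M.k_mem (inv_mem M'.k_mem)) h2
  exact ⟨mul_inv_eq_one.1 e1, (inv_mul_eq_one.1 (conj_eq_one_iff.1 e2)).symm⟩

theorem Mu.tor (M : W.Mu i x p q) (hh : W.Tor h) :
    W.Mu i (h * x * h⁻¹) (h * p * h⁻¹) (h * q * h⁻¹) :=
  ⟨hh.mem M.mem, by simpa using M.ne, hh.mem M.k_mem, hh.mem M.l_mem, by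
    rw [show h * p * h⁻¹ * (h * x * h⁻¹) * (h * q * h⁻¹) = h * (p * x * q) * h⁻¹ by group]
    exact (hh.mul_ref M.ref).mul_tor hh.inv⟩

theorem Mu.rfl' (M : W.Mu i x p q) (hm : W.Ref m c) :
    W.Mu (c - i) (m * x * m⁻¹) (m * p * m⁻¹) (m * q * m⁻¹) :=
  ⟨hm.mem M.mem, by simpa using M.ne, hm.mem M.k_mem, hm.mem M.l_mem, by
    rw [show m * p * m⁻¹ * (m * x * m⁻¹) * (m * q * m⁻¹) = m * (p * x * q) * m⁻¹ by group]
    exact (hm.conj M.ref).eq⟩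

theorem M.mem (h : W.M i x m) : x ∈ W.U i := h.elim fun _ h => h.elim fun _ h => h.1.mem

theorem M.ne (h : W.M i x m) : x ≠ 1 := h.elim fun _ h => h.elim fun _ h => h.1.ne

theorem M.ref (h : W.M i x m) : W.Ref m (2 * i + 8) := by
  obtain ⟨p, q, M, rfl⟩ := h; exact M.ref

theorem M.uniq {m' : G} (h : W.M i x m) (h' : W.M i x m') : m = m' := by
  obtain ⟨p, q, M, rfl⟩ := h
  obtain ⟨p', q', M', rfl⟩ := h'
  rw [(M.uniq M').1, (M.uniq M').2]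

theorem M.inv (h : W.M i x m) : W.M i x⁻¹ m⁻¹ := by
  obtain ⟨p, q, M, rfl⟩ := h
  exact ⟨_, _, M.inv, by group⟩

theorem M.eq (h : W.M i x m) (e : i = j ∨ i = j + 16 ∨ i + 16 = j := by omega) : W.M j x m := by
  obtain ⟨p, q, M, rfl⟩ := h
  exact ⟨_, _, M.eq e, rfl⟩

theorem M.tor (M : W.M i x m) (hh : W.Tor h) : W.M i (h * x * h⁻¹) (h * m * h⁻¹) := by
  obtain ⟨p, q, M, rfl⟩ := M
  exact ⟨_, _, M.tor hh, by group⟩

theorem M.rfl' {n : G} (M : W.M i x n) (hm : W.Ref m c) : W.M (c - i) (m * x * m⁻¹) (m * n * m⁻¹) := by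
  obtain ⟨p, q, N, rfl⟩ := M
  exact ⟨_, _, N.rfl' hm, by group⟩

theorem Mu.toM (M : W.Mu i x p q) : W.M i x (p * x * q) := ⟨p, q, M, rfl⟩

theorem Mu.kM (M : W.Mu i x p q) : W.M (i + 8) p (p * x * q) := ⟨_, _, M.kap, by group⟩

theorem Mu.lM (M : W.Mu i x p q) : W.M (i + 8) q (p * x * q) := ⟨_, _, M.lam, by group⟩

theorem M.up (M : W.M i x m) (hy : y ∈ W.U (i + 7)) :
    (m * y * m⁻¹)⁻¹ * (x * y * x⁻¹) ∈ W.I (i + 2) (i + 7) := by
  obtain ⟨p, q, M, rfl⟩ := M; exact M.up hy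

theorem M.dn (M : W.M i x m) (hy : y ∈ W.U (i - 7)) :
    x * y * x⁻¹ * (m * y * m⁻¹)⁻¹ ∈ W.I (i - 7) (i - 2) := by
  obtain ⟨p, q, M, rfl⟩ := M; exact M.dn hy

end mu

end FS8.W8
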