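import Mathlib
import Cfsg.Agent.Lib.FS8.Bas0

/-! Finite Moufang octagons: existence of central elations. -/

set_option autoImplicit false

open scoped commutatorElement

namespace FS8.W8

variable {G : Type*} [Group G] {W : W8 G} {i j k l c d : ℤ} {x y a b g m h q : G}

theorem exists_ref (W : W8 G) (hc : Even c) : ∃ m, W.Ref m c := by
  obtain ⟨k, rfl⟩ := hc
  obtain ⟨x, hx, e⟩ := W.ne (k - 4)
  obtain ⟨m, M⟩ := W.exists_M hx e
  exact ⟨m, M.ref.eq⟩

/-- An element that starts at `i` moves every nontrivial element of `U (i+5) ⋯ U (i+8)` out of that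
window. -/
theorem lemN (ha : a ∈ W.U i) (a1 : a ≠ 1) (hq : q ∈ W.I (i + 1) (i + 8)) (hy : y ∈ W.I (i + 5) (i + 8))
    (h : a * q * y * (a * q)⁻¹ ∈ W.I (i + 5) (i + 8)) : y = 1 := by
  obtain ⟨p, r, M⟩ := W.exists_Mu ha a1
  have h1 := M.ref.memI' (nrm M.k_mem h)
  obtain ⟨s, hs, t, ht, e⟩ := split (mul_mem (inv_mem (mI M.l_mem)) hq : r⁻¹ * q ∈ W.I (i + 1) (i + 8)) (i + 4)
  have h2 : t * y * t⁻¹ = s⁻¹ * ((p * a * r)⁻¹ * (p * (a * q * y * (a * q)⁻¹) * p⁻¹) * (p * a * r)) * s := by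
    rw [show q = r * (s * t) by rw [← e]; group]; group
  have h3 : t * y * t⁻¹ ∈ W.I i (i + 4) := h2 ▸ nrmI' hs (mono h1)
  exact conj_eq_one_iff.1 (sep h3 (nrmI ht hy))

theorem lemN' (ha : a ∈ W.U i) (a1 : a ≠ 1) (hq : q ∈ W.I (i - 8) (i - 1)) (hy : y ∈ W.I (i - 8) (i - 5))
    (h : a * q * y * (a * q)⁻¹ ∈ W.I (i - 8) (i - 5)) : y = 1 :=
  lemN (W := W.rf 0) (i := -i) (q := q) (by simpa using ha) a1 (by simpa using mono hq)
    (by simpa using mono hy) (by simpa using mono h)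

/-- An element of a window that centralises some `1 ≠ y ∈ U k` starts at `k - 4` or later. -/
theorem cen_up (hg : g ∈ W.I i j) (hy : y ∈ W.U k) (y1 : y ≠ 1) (h : Commute g y)
    (e : k ≤ i + 8 ∧ j < i + 8 := by omega) : g ∈ W.I (k - 4) j := by
  have key : ∀ n : ℕ, ∀ i : ℤ, k ≤ i + 8 → j < i + 8 → k - 4 ≤ i + n → g ∈ W.I i j → g ∈ W.I (k - 4) j :=
    fun n => by
      induction n with
      | zero => exact fun i _ _ h hg => mono hg (by simpa using h)
      | succ n ih =>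
        intro i h1 h2 h3 hg
        by_cases e : k - 4 ≤ i
        · exact mono hg
        obtain ⟨a, ha, q, hq, rfl⟩ := dec hg
        by_cases a1 : a = 1
        · exact ih (i + 1) (by omega) (by omega) (by push_cast at h3; omega) (by simpa [a1] using hq)
        · exact absurd (lemN ha a1 (mono hq) (mI hy) (by rw [h.eq, mul_inv_cancel_right]; exact mI hy)) y1
  exact key (k - 4 - i).toNat i e.1 e.2 (by omega) hg

theorem cen_dn (hg : g ∈ W.I i j) (hy : y ∈ W.U k) (y1 : y ≠ 1) (h : Commute g y)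
    (e : j - 8 ≤ k ∧ j < i + 8 := by omega) : g ∈ W.I i (k + 4) := by
  have := cen_up (W := W.rf 0) (i := -j) (j := -i) (k := -k) (g := g) (y := y) (by simpa using hg)
    (by simpa using hy) y1 h
  simpa [add_comm] using mono (W := W.rf 0) (k := -k - 4) (l := -i) this

/-- Nontrivial elements of `U i` and `U (i + 5)`, `U (i + 6)`, `U (i + 7)` do not commute. -/
theorem not_comm (hx : x ∈ W.U i) (hy : y ∈ W.U j) (h : Commute x y)
    (e : i + 5 ≤ j ∧ j ≤ i + 8 := by omega) : x = 1 ∨ y = 1 := by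
  by_cases y1 : y = 1
  · exact .inr y1
  · exact .inl (I_nil (cen_up (i := i) (j := i) (mI hx) hy y1 h))

/-- If `y ∈ U (i + 4)` centralises `U (i + 8)` it centralises `U i`. -/
theorem half (hy : y ∈ W.U (i + 4)) (h : ∀ u ∈ W.U (i + 8), Commute y u) (hx : x ∈ W.U i) :
    Commute y x := by
  by_cases x1 : x = 1
  · rw [x1]; exact Commute.one_right _
  obtain ⟨p, r, M⟩ := W.exists_Mu hx x1
  have e := M.shift (h r M.l_mem).symm
  have h1 := M.ref.mem (j := i + 4) hy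
  generalize p * x * r * y * (p * x * r)⁻¹ = v at h1 e
  have h2 : ⁅x, y⁆ = p⁻¹ * v * p * y⁻¹ := by rw [← e, commutatorElement_def]
  exact (commutatorElement_eq_one_iff_commute.1 (sep (cm hx hy) (k := i + 4) (l := i + 7)
    (h2 ▸ mul_mem (nrm' M.k_mem (mI h1)) (inv_mem (mI hy))))).symm

theorem half' (hy : y ∈ W.U (i + 4)) (h : ∀ u ∈ W.U i, Commute y u) (hx : x ∈ W.U (i + 8)) :
    Commute y x :=
  half (W := W.rf 0) (i := -i - 8) (by simpa using U_eq hy)
    (fun u hu => h u (U_eq (by simpa using hu : u ∈ W.U (-(-i - 8 + 8))))) (by simpa using U_eq hx)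

theorem V_all (ha : a ∈ W.V i) (a1 : a ≠ 1) (h : Even (i + j)) : ∃ b ∈ W.V j, b ≠ 1 := by
  obtain ⟨m, hm⟩ := W.exists_ref h
  exact ⟨_, hm.memV ha, by simpa using a1⟩

theorem card_par (W : W8 G) (h : Even (i + j)) : Nat.card (W.U i) = Nat.card (W.U j) := by
  obtain ⟨m, hm⟩ := W.exists_ref h
  exact Nat.card_congr ⟨fun x => ⟨_, hm.mem x.2⟩, fun y => ⟨_, hm.mem' y.2⟩,
    fun x => Subtype.ext (by simp [mul_assoc]), fun x => Subtype.ext (by simp [mul_assoc])⟩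

variable (W) in
/-- `g` centralises the window from `i` to `j`. -/
def Cz (g : G) (i j : ℤ) : Prop := ∀ k, i ≤ k → k ≤ j → ∀ u ∈ W.U k, Commute g u

theorem Cz.on (h : W.Cz g i j) (hx : x ∈ W.I k l) (e : i ≤ k ∧ l ≤ j := by omega) : Commute g x :=
  I_ind hx (fun r h1 h2 _ hx => h r (by omega) (by omega) _ hx) (Commute.one_right _)
    fun _ _ _ _ h1 h2 => h1.mul_right h2

theorem Cz.conj (h : W.Cz g i j) (hx : ∀ y ∈ W.I i j, x⁻¹ * y * x ∈ W.I i j) : W.Cz (x * g * x⁻¹) i j :=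
  fun _ h1 h2 _ hu => commute_conj x (h.on (hx _ (mI hu)))

theorem Cz.comm (h : W.Cz g i j) (hx : ∀ y ∈ W.I i j, x⁻¹ * y * x ∈ W.I i j) : W.Cz ⁅x, g⁆ i j :=
  fun k h1 h2 u hu => (h.conj hx k h1 h2 u hu).mul_left (h k h1 h2 u hu).inv_left

theorem Cz.ref (h : W.Cz g i j) (hm : W.Ref m c) : W.Cz (m * g * m⁻¹) (c - j) (c - i) :=
  fun k h1 h2 _ hu => commute_conj m (h (c - k) (by omega) (by omega) _ (hm.mem' hu))

namespace Cen0

/-- no central elations -/
theorem mid (hV : ∀ i, ∀ a ∈ W.V i, a = 1) (ha : a ∈ W.U 3) (h : W.Cz a 1 7) : a = 1 := by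
  have h0 : ∀ u ∈ W.U 0, Commute a u := fun u hu => by
    obtain ⟨y, hy, y1⟩ := W.ne 7
    have := cen_up (cm hu ha) hy y1 (h.comm (fun _ hv => nrm' hu hv) 7 (by omega) (by omega) y hy)
    exact (commutatorElement_eq_one_iff_commute.1 (I_nil this)).symm
  refine hV 3 a ⟨ha, fun j h1 h2 u hu => ?_⟩
  rcases (show j = -1 ∨ j = 0 ∨ 1 ≤ j by omega) with rfl | rfl | e
  · exact half (i := -1) ha (h 7 (by omega) (by omega)) hu
  · exact h0 u hu
  · exact h j e (by omega) u hu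

theorem mid4 (hV : ∀ i, ∀ a ∈ W.V i, a = 1) (ha : a ∈ W.U 4) (h : W.Cz a 1 7) : a = 1 := by
  have h0 : ∀ u ∈ W.U 0, Commute a u := fun u hu => by
    obtain ⟨y, hy, y1⟩ := W.ne 7
    have k := h.comm (fun _ hv => nrm' hu hv)
    have := cen_up (cm hu ha) hy y1 (k 7 (by omega) (by omega) y hy)
    exact (commutatorElement_eq_one_iff_commute.1 (mid hV (I_one this) k)).symm
  refine hV 4 a ⟨ha, fun j h1 h2 u hu => ?_⟩
  rcases (show j = 8 ∨ j = 0 ∨ (1 ≤ j ∧ j ≤ 7) by omega) with rfl | rfl | e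
  · exact half' (i := 0) ha h0 hu
  · exact h0 u hu
  · exact h j e.1 e.2 u hu

/-- the counting step -/
theorem step [Finite G] (hV : ∀ i, ∀ a ∈ W.V i, a = 1) {z : G} (hz : z ∈ W.I 4 5) (z1 : z ≠ 1)
    (h : W.Cz z 1 8) : Nat.card (W.U 0) ≤ Nat.card (W.U 3) ∧ (Nat.card (W.U 0) = Nat.card (W.U 3) →
      ∀ a ∈ W.U 3, ∃ b ∈ W.U 4, W.Cz (a * b) 1 7) := by
  have h7 : W.Cz z 1 7 := fun k h1 h2 => h k h1 (by omega)
  have key : ∀ u : W.U 0, ∃ a : W.U 3, ∃ b ∈ W.U 4, ⁅(u : G), z⁆ = a * b ∧ W.Cz (a * b) 1 7 := fun u => by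
    obtain ⟨y, hy, y1⟩ := W.ne 7
    have k := h7.comm (fun _ hv => nrm' u.2 hv)
    have := cen_up (cmI (i := 0) (j := 0) (mI u.2) hz) hy y1 (k 7 (by omega) (by omega) y hy)
    obtain ⟨a, ha, b, hb, e⟩ := dec this
    exact ⟨⟨a, U_eq ha⟩, b, I_one hb, e, e ▸ k⟩
  choose f b hb e hc using key
  have inj : Function.Injective f := fun u v huv => by
    have h1 : (b u)⁻¹ * b v = 1 := mid4 hV (mul_mem (inv_mem (hb u)) (hb v)) fun k h1 h2 w hw => by
      have := (hc u k h1 h2 w hw).inv_left.mul_left (hc v k h1 h2 w hw)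
      rwa [huv, mul_inv_rev, mul_assoc, inv_mul_cancel_left] at this
    have h2 : ⁅(u : G), z⁆ = ⁅(v : G), z⁆ := by rw [e, e, huv, inv_mul_eq_one.1 h1]
    have h3 : Commute z ((v : G)⁻¹ * u) := by
      simp only [commutatorElement_def, mul_left_inj] at h2
      have : z * ((v : G)⁻¹ * u) = (v : G)⁻¹ * (v * z * (v : G)⁻¹) * u := by group
      rw [Commute, SemiconjBy, this, ← h2]; group
    by_contra ne
    have w1 : (v : G)⁻¹ * u ≠ 1 := fun k => ne (Subtype.ext (inv_mul_eq_one.1 k).symm)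
    exact z1 (mid4 hV (I_one (cen_dn hz (mul_mem (inv_mem v.2) u.2) w1 h3)) h7)
  refine ⟨Nat.card_le_card_of_injective f inj, fun k a ha => ?_⟩
  obtain ⟨u, hu⟩ := (inj.bijective_of_nat_card_le k.ge).2 ⟨a, ha⟩
  exact ⟨b u, hb u, by simpa [hu] using hc u⟩

theorem exists_V [Finite G] (h : W.Cen) : ∃ i, ∃ a ∈ W.V i, a ≠ 1 := by
  by_contra! hV
  obtain ⟨z, hz, z1, hc⟩ := h
  obtain ⟨y, hy, y1⟩ := W.ne 8
  obtain ⟨y', hy', y1'⟩ := W.ne 1
  have hz' : z ∈ W.I 4 5 := mono (cen_dn (cen_up hz hy y1 (hc 8 (by omega) (by omega) y hy)) hy' y1'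
    (hc 1 (by omega) (by omega) y' hy'))
  have s1 := step hV hz' z1 hc
  have s2 := step (W := W.rf 9) (fun i a ha => hV _ a (by simpa using ha)) (by simpa using hz') z1
    (fun k h1 h2 u hu => hc (9 - k) (by omega) (by omega) u hu)
  simp only [rf_U] at s2
  have c1 := W.card_par (i := 9 - 0) (j := 3) (by decide)
  have c2 := W.card_par (i := 9 - 3) (j := 0) (by decide)
  have e : Nat.card (W.U 0) = Nat.card (W.U 3) := by omega
  -- every element is the first or the last component of a central element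
  have A : ∀ i, ∀ a ∈ W.U i, ∃ b ∈ W.U (i + 1), W.Cz (a * b) (i - 2) (i + 4) := fun i a ha => by
    rcases Int.even_or_odd i with hi | hi
    · obtain ⟨m, hm⟩ := W.exists_ref (c := i + 6) (by grind)
      obtain ⟨b, hb, k⟩ := s2.2 (by omega) _ (hm.mem' ha)
      have k' : W.Cz (m⁻¹ * a * m * b) 2 8 := fun r h1 h2 u hu =>
        k (9 - r) (by omega) (by omega) u (by simpa using hu)
      refine ⟨_, hm.mem hb, ?_⟩
      have := k'.ref hm
      rwa [show m * (m⁻¹ * a * m * b) * m⁻¹ = a * (m * b * m⁻¹) by group, show i + 6 - 8 = i - 2 by ring,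
        show i + 6 - 2 = i + 4 by ring] at this
    · obtain ⟨m, hm⟩ := W.exists_ref (c := i + 5) (by grind)
      obtain ⟨n, hn⟩ := W.exists_ref (c := 8) (by decide)
      obtain ⟨b, hb, k⟩ := s1.2 e _ (hn.mem' (hm.mem' (j := 5) ha))
      refine ⟨_, hm.mem (hn.mem (j := 4) hb), ?_⟩
      have := (k.ref hn).ref hm
      rwa [show m * (n * (n⁻¹ * (m⁻¹ * a * m) * n * b) * n⁻¹) * m⁻¹ = a * (m * (n * b * n⁻¹) * m⁻¹) by group,
        show i + 5 - (8 - 1) = i - 2 by ring, show i + 5 - (8 - 7) = i + 4 by ring] at this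
  have B : ∀ r, 1 ≤ r → r ≤ 3 → (∀ i, ∀ a ∈ W.U i, ∀ u ∈ W.U (i + r), Commute a u) →
      ∀ i, ∀ a ∈ W.U i, ∀ u ∈ W.U (i + (r + 1)), Commute a u := fun r h1 h2 ih i a ha u hu => by
    obtain ⟨b, hb, k⟩ := A i a ha
    simpa using (k _ (by omega) (by omega) u hu).mul_left (ih _ b hb u (U_eq hu)).inv_left
  have B1 : ∀ i, ∀ a ∈ W.U i, ∀ u ∈ W.U (i + 1), Commute a u := fun i a ha u hu => adj ha hu
  have B2 := B 1 (by omega) (by omega) B1
  have B3 := B _ (by omega) (by omega) B2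
  have B4 := B _ (by omega) (by omega) B3
  have B0 : ∀ i, ∀ a ∈ W.U i, ∀ u ∈ W.U i, Commute a u := fun i a ha u hu => by
    obtain ⟨b, hb, k⟩ := A i a ha
    simpa using (k _ (by omega) (by omega) u hu).mul_left (adj hb hu).inv_left
  refine y1 (hV 8 y ⟨hy, fun j h1 h2 u hu => ?_⟩)
  obtain rfl | rfl | rfl | rfl | rfl | rfl | rfl | rfl | rfl :
    j = 4 ∨ j = 5 ∨ j = 6 ∨ j = 7 ∨ j = 8 ∨ j = 9 ∨ j = 10 ∨ j = 11 ∨ j = 12 := by omega
  exacts [(B4 4 u hu y hy).symm, (B3 5 u hu y hy).symm, (B2 6 u hu y hy).symm, (B1 7 u hu y hy).symm,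
    B0 8 y hy u hu, B1 8 y hy u hu, B2 8 y hy u hu, B3 8 y hy u hu, B4 8 y hy u hu]

end Cen0

/-- There are central elations of one parity. -/
theorem Cen.ev [Finite G] (h : W.Cen) : W.Ev ∨ (W.rf 9).Ev := by
  obtain ⟨i, a, ha, a1⟩ := Cen0.exists_V h
  rcases Int.even_or_odd i with hi | hi
  · exact .inl fun j hj => V_all ha a1 (hi.add hj)
  · exact .inr fun j hj => by rw [rf_V]; exact V_all ha a1 (by grind)

end FS8.W8
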